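import Cfsg.Agent.H984.On.Real
import Cfsg.Agent.LieClassical.PomegaCard

/-!
# The row `PΩ_{2m+1}(q)` of S3855 (helper984, task ON-OODD)
-/

set_option autoImplicit false
set_option linter.unusedSectionVars false

namespace Cfsg.Agent.H984.OnRows

open QuadraticMap Matrix Module Cfsg
open Cfsg.Agent.H507.GmnOrth Cfsg.Agent.H507.GmnOrthRows Cfsg.Agent.H984.OnSpin Cfsg.Agent.H984.OnReal
open Cfsg.Agent.H467.OddNorm Cfsg.Agent.H952.On
open Cfsg.Agent.LieClassical.OrthCore Cfsg.Agent.GenOrth Cfsg.Agent.LieClassical.OmegaReindex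

theorem center_of_simple {X : Type*} [Group X] (hs : IsSimpleGroup X) (hna : ¬ IsMulCommutative X) :
    Subgroup.center X = ⊥ := by
  rcases (inferInstance : (Subgroup.center X).Normal).eq_bot_or_eq_top with h | h
  · exact h
  · exfalso
    apply hna
    refine ⟨⟨fun a b => ?_⟩⟩
    have h2 : b ∈ Subgroup.center X := by rw [h]; exact Subgroup.mem_top _
    exact Subgroup.mem_center_iff.1 h2 a

theorem ev_odd {F : Type} [Field F] [Fintype F] {m p : ℕ} [hp : Fact p.Prime] (hm : 2 ≤ m)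
    (hodd : Odd (Fintype.card F)) (hp2 : p ≠ 2) (hpF : (p : F) ≠ 0)
    (hc : Subgroup.center (POmega F (quadFormOdd m F)) = ⊥) (hd : p ∣ Nat.card (POmega F (quadFormOdd m F))) :
    Ev p (POmega F (quadFormOdd m F)) := by
  have h2 : (2 : F) ≠ 0 := Cfsg.Agent.LieClassical.PomegaCard.odd_card_iff.1 hodd
  have hcard : Fintype.card (Unit ⊕ (Fin m ⊕ Fin m)) = 2 * m + 1 := by
    simp only [Fintype.card_sum, Fintype.card_fin, Fintype.card_unit]
    omega
  have hs : ∃ u : Unit ⊕ (Fin m ⊕ Fin m) → F, u ≠ 0 ∧ quadOdd m F u = 0 := by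
    refine ⟨Pi.single (Sum.inr (Sum.inl ⟨0, by omega⟩)) 1, ?_, ?_⟩
    · intro h
      have := congrFun h (Sum.inr (Sum.inl ⟨0, by omega⟩))
      rw [Pi.single_eq_same] at this
      exact one_ne_zero this
    · rw [coe_quadOdd, quadFormOdd]
      simp [Pi.single_apply]
  rw [← coe_quadOdd] at hc hd ⊢
  have hq : ¬ p ∣ Fintype.card F := by
    rw [← Nat.card_eq_fintype_card]
    exact not_dvd_card hp.out hpF
  obtain ⟨c, hc0, hck, hceven⟩ := exists_order hp.out hq
  refine ev_of_real (quadOdd_nondegenerate h2) (by omega) hs hp2 hc hd fun g hg => ?_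
  rcases Nat.even_or_odd c with he | ho
  · exact real_even (quadOdd_nondegenerate h2) (by omega) (Or.inr (by omega)) hp.out hp2 hpF he (hceven he) hg
  · exact real_odd_dim h2 (quadOdd_nondegenerate h2) (by omega) ⟨m, hcard⟩ hp.out hp2 hpF ho
      ((hck c).2 (dvd_refl _)) hg

/-- **ON-OODD.** -/
theorem oodd {p : ℕ} [Fact p.Prime] (hp2 : p ≠ 2) : RowFor p (fun X _ => ∃ (F : Type) (_ : Field F) (_ : Fintype F)
    (m : ℕ), (p : F) ≠ 0 ∧ 3 ≤ m ∧ Odd (Fintype.card F) ∧ Nonempty (X ≃* POmega F (quadFormOdd m F))) := by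
  intro X _ _ hX hna hd hC
  obtain ⟨F, _, _, m, hpF, hm, hodd, ⟨e⟩⟩ := hC
  have hZ := center_of_simple hX hna
  have hZ' : Subgroup.center (POmega F (quadFormOdd m F)) = ⊥ := by
    rw [eq_bot_iff]
    intro z hz
    have h1 : e.symm z ∈ Subgroup.center X := by
      rw [Subgroup.mem_center_iff] at hz ⊢
      intro g
      apply e.injective
      rw [map_mul, map_mul, e.apply_symm_apply]
      exact hz _
    rw [hZ, Subgroup.mem_bot] at h1
    rw [Subgroup.mem_bot]
    exact e.symm.injective (h1.trans (map_one _).symm)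
  refine Row.ev (Ev.congr e.symm ?_)
  have : Finite (POmega F (quadFormOdd m F)) := Finite.of_equiv X e.toEquiv
  exact ev_odd (by omega) hodd hp2 hpF hZ' (by rwa [← Nat.card_congr e.toEquiv])

end Cfsg.Agent.H984.OnRows
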