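import Cfsg.Agent.H709.GmnPOmega
import Cfsg.Agent.H952.On.Table

/-!
# Frames of orthogonal spaces and `Ev` (helper984)

The subgroup of `Aut PΩ` of the semisimilitudes permuting the `m` summands of `N ⊥ ... ⊥ N` has the sign character,
nontrivial on an inner automorphism.
-/

set_option autoImplicit false
set_option linter.unusedSectionVars false

namespace Cfsg.Agent.H984.OnFrame

open QuadraticMap Cfsg.Agent.LieClassical.OrthCore Cfsg.Agent.LieClassical.OrthTrans
  Cfsg.Agent.LieClassical.OrthSimple Cfsg.Agent.ClassicalGeometry.OrthSemi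
  Cfsg.Agent.ClassicalGeometry.OrthSemiCount Cfsg.Agent.H709.OrthFrame
open Cfsg.Agent.H467.OddNorm (Ev Ev.of_range)

variable {F W : Type*} [Field F] [AddCommGroup W] [Module F W] {m : ℕ} {N : QuadraticForm F W}

/-- **Frames give `Ev`.** -/
theorem ev_frm [Finite F] [Finite W] (hG : Good (frm m N)) (h2 : 2 ≤ m)
    (hsurj : Function.Surjective (Psi (frm m N)))
    (huniv : ∀ c : F, ∃ w, N w = c)
    (hss : ∀ (σ : F ≃+* F) (c : F), c ≠ 0 → ∃ M, IsSS N σ c M)
    {p : ℕ} [hp : Fact p.Prime] (hp2 : p ≠ 2)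
    (hval : padicValNat p (Nat.card (O (frm m N))) =
      padicValNat p (Nat.card (O N) ^ m * m.factorial)) : Ev p (PE (frm m N)) := by
  classical
  have : Module.Finite F W := Module.Finite.of_finite
  have hnt : Nontrivial W := by
    by_contra hcon
    rw [not_nontrivial_iff_subsingleton] at hcon
    obtain ⟨w, hw⟩ := huniv 1
    have : w = 0 := Subsingleton.elim _ _
    rw [this, QuadraticMap.map_zero] at hw
    exact zero_ne_one hw
  have hfinG : Finite (Gam (frm m N)) := inferInstance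
  have hfinL : Finite ((Fin m → W) ≃ₗ[F] (Fin m → W)) :=
    Finite.of_injective (fun f => (f : (Fin m → W) → (Fin m → W))) DFunLike.coe_injective
  have hZ : Subgroup.center (PE (frm m N)) = ⊥ := center_PE hG
  have hcard0 : Finite ↥(E (frm m N)) := inferInstance
  have hfin : Finite (PE (frm m N)) := Quotient.finite _
  obtain ⟨i0, i1, h01⟩ : ∃ i0 i1 : Fin m, i0 ≠ i1 :=
    ⟨⟨0, by omega⟩, ⟨1, by omega⟩, by simp [Fin.ext_iff]⟩
  obtain ⟨h, hh⟩ := exists_adjust hG huniv i0 (pmO m N (Equiv.swap i0 i1))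
  have hxM : Cfsg.Agent.H709.OrthFrame.IsM (toG _ (pmO m N (Equiv.swap i0 i1) * dgO m N (Pi.mulSingle i0 h))).1
      (Equiv.swap i0 i1) := by
    have := (isM_pmO (N := N) (Equiv.swap i0 i1)).comp (isM_dgO (Pi.mulSingle i0 h : Fin m → O N))
    rw [mul_one] at this
    exact this
  refine Ev.of_range hp2 hZ ((Psi (frm m N)).comp (X m N).subtype) ?_
    ((Equiv.Perm.sign).comp (permX m N)) ?_
    (γ := ⟨toG _ (pmO m N (Equiv.swap i0 i1) * dgO m N (Pi.mulSingle i0 h)), _, hxM⟩) (Psi_toG _ hh) ?_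
  · have h1 : ((Psi (frm m N)).comp (X m N).subtype).range = (X m N).map (Psi (frm m N)) := by
      rw [MonoidHom.range_eq_map, ← Subgroup.map_map, ← MonoidHom.range_eq_map, Subgroup.range_subtype]
    rw [h1]
    intro hd
    exact index_X hss hval (hd.trans (Subgroup.index_map_dvd (X m N) hsurj))
  · intro γ hγ
    have h2 : (γ : Gam (frm m N)) ∈ (Psi (frm m N)).ker := hγ
    rw [ker_Psi hG] at h2
    obtain ⟨a, ha⟩ := h2
    have h3 : permX m N γ = 1 := by
      apply permX_eq
      intro i w j hj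
      have hj' : j ≠ i := hj
      rw [← ha]
      show ((a : F) • (Pi.single i w : Fin m → W)) j = 0
      rw [Pi.smul_apply, Pi.single_eq_of_ne hj', smul_zero]
    rw [MonoidHom.comp_apply, h3, map_one]
  · rw [MonoidHom.comp_apply, permX_eq hxM, Equiv.Perm.sign_swap h01]
    decide

end Cfsg.Agent.H984.OnFrame
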