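import Mathlib

/-!
# Valuations of the orders of orthogonal groups (helper984)
-/

set_option autoImplicit false
set_option linter.unusedSectionVars false

namespace Cfsg.Agent.H984.OnVal

theorem ndvd_two {p : ℕ} [hp : Fact p.Prime] (hp2 : p ≠ 2) : ¬ p ∣ 2 := fun h =>
  hp2 ((Nat.prime_dvd_prime_iff_eq hp.out Nat.prime_two).1 h)

/-- the product of the `q ^ (2 i) - 1` -/
theorem val_prod {p q c : ℕ} [hp : Fact p.Prime] (hp2 : p ≠ 2) (hq : 2 ≤ q) (hpq' : ¬ p ∣ q) (hc : 0 < c)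
    (hck : ∀ k, p ∣ (q ^ k) ^ 2 - 1 ↔ c ∣ k) (n : ℕ) :
    (∏ i ∈ Finset.range n, (q ^ (2 * (i + 1)) - 1)) ≠ 0 ∧
    padicValNat p (∏ i ∈ Finset.range n, (q ^ (2 * (i + 1)) - 1)) =
      (n / c) * padicValNat p ((q ^ c) ^ 2 - 1) + padicValNat p (n / c).factorial := by
  have hodd : Odd p := hp.out.odd_of_ne_two hp2
  have hpow : ∀ k, 0 < k → 1 < (q ^ k) ^ 2 := by
    intro k hk
    rw [← pow_mul]
    exact Nat.one_lt_pow (by omega) (by omega)
  induction n with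
  | zero => simp
  | succ n ih =>
    obtain ⟨ih1, ih2⟩ := ih
    have h0 : q ^ (2 * (n + 1)) - 1 ≠ 0 := by
      have h1 := hpow (n + 1) (by omega)
      rw [← pow_mul, mul_comm] at h1
      omega
    rw [Finset.prod_range_succ]
    refine ⟨mul_ne_zero ih1 h0, ?_⟩
    rw [padicValNat.mul ih1 h0, ih2, Nat.succ_div]
    by_cases hd : c ∣ n + 1
    · rw [if_pos hd]
      obtain ⟨j, hj⟩ := hd
      have hj0 : j ≠ 0 := by
        rintro rfl
        omega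
      have hjn : n / c + 1 = j := by
        have h2 := Nat.succ_div (a := n) (b := c)
        rw [if_pos ⟨j, hj⟩, hj, Nat.mul_div_cancel_left _ hc] at h2
        exact h2.symm
      have h5 := padicValNat.pow_sub_pow (p := p) hodd (x := (q ^ c) ^ 2) (y := 1) (hpow c hc)
        ((hck c).2 (dvd_refl _)) (fun h6 => hpq' (hp.out.dvd_of_dvd_pow (hp.out.dvd_of_dvd_pow h6))) (n := j) hj0
      have h6 : q ^ (2 * (n + 1)) - 1 = ((q ^ c) ^ 2) ^ j - 1 ^ j := by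
        rw [one_pow, ← pow_mul, ← pow_mul, hj]
        congr 2
        ring
      rw [h6, h5, hjn]
      obtain ⟨i, rfl⟩ : ∃ i, j = i + 1 := ⟨j - 1, by omega⟩
      have hi : n / c = i := by omega
      rw [hi, Nat.factorial_succ, padicValNat.mul (by omega) (Nat.factorial_ne_zero i)]
      ring
    · rw [if_neg hd, add_zero]
      have h5 : ¬ p ∣ q ^ (2 * (n + 1)) - 1 := by
        intro h6
        apply hd
        apply (hck (n + 1)).1
        rwa [← pow_mul, mul_comm (n + 1) 2]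
      rw [padicValNat.eq_zero_of_not_dvd h5, add_zero]

/-- the order with a factor `R = q ^ m ∓ 1` -/
theorem val_order {p q c : ℕ} [hp : Fact p.Prime] (hp2 : p ≠ 2) (hq : 2 ≤ q) (hpq' : ¬ p ∣ q) (hc : 0 < c)
    (hck : ∀ k, p ∣ (q ^ k) ^ 2 - 1 ↔ c ∣ k) {w : ℕ} (hw : 0 < w) {R : ℕ} (hR : R ≠ 0) :
    2 * q ^ ((c * w) * (c * w - 1)) * R * ∏ i ∈ Finset.range (c * w - 1), (q ^ (2 * (i + 1)) - 1) ≠ 0 ∧
    padicValNat p (2 * q ^ ((c * w) * (c * w - 1)) * R *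
      ∏ i ∈ Finset.range (c * w - 1), (q ^ (2 * (i + 1)) - 1)) =
      padicValNat p R + ((w - 1) * padicValNat p ((q ^ c) ^ 2 - 1) + padicValNat p (w - 1).factorial) := by
  obtain ⟨h1, h2⟩ := val_prod hp2 hq hpq' hc hck (c * w - 1)
  have h3 : (c * w - 1) / c = w - 1 := by
    obtain ⟨j, rfl⟩ : ∃ j, w = j + 1 := ⟨w - 1, by omega⟩
    rw [Nat.add_sub_cancel]
    apply Nat.div_eq_of_lt_le
    · rw [mul_add, mul_one, mul_comm c j]
      omega
    · rw [mul_comm c (j + 1)]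
      have : 0 < (j + 1) * c := Nat.mul_pos (by omega) hc
      omega
  have h5 : q ^ ((c * w) * (c * w - 1)) ≠ 0 := pow_ne_zero _ (by omega)
  refine ⟨mul_ne_zero (mul_ne_zero (mul_ne_zero (by norm_num) h5) hR) h1, ?_⟩
  rw [padicValNat.mul (mul_ne_zero (mul_ne_zero (by norm_num) h5) hR) h1,
    padicValNat.mul (mul_ne_zero (by norm_num) h5) hR, padicValNat.mul (by norm_num) h5,
    padicValNat.eq_zero_of_not_dvd (ndvd_two hp2),
    padicValNat.eq_zero_of_not_dvd (fun h => hpq' (hp.out.dvd_of_dvd_pow h)), h2, h3]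
  ring

/-- **The three cases**: `A` is the valuation of the factor of the right type, the other factor is prime to `p`. -/
theorem val_cases {p Q : ℕ} [hp : Fact p.Prime] (hp2 : p ≠ 2) (hQ : 2 ≤ Q) (hpQ' : ¬ p ∣ Q) {w : ℕ} (hw : 0 < w) :
    (p ∣ Q - 1 ∨ (p ∣ Q + 1 ∧ Even w) →
      padicValNat p (Q ^ w - 1) = padicValNat p (Q ^ 2 - 1) + padicValNat p w ∧ ¬ p ∣ Q ^ w + 1) ∧
    (p ∣ Q + 1 ∧ Odd w →
      padicValNat p (Q ^ w + 1) = padicValNat p (Q ^ 2 - 1) + padicValNat p w ∧ ¬ p ∣ Q ^ w - 1) := by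
  have hodd : Odd p := hp.out.odd_of_ne_two hp2
  have hQw : Q ≤ Q ^ w := Nat.le_self_pow hw.ne' Q
  have hnot : ¬ (p ∣ Q ^ w - 1 ∧ p ∣ Q ^ w + 1) := by
    rintro ⟨h1, h2⟩
    have h3 := Nat.dvd_sub h2 h1
    rw [show Q ^ w + 1 - (Q ^ w - 1) = 2 by omega] at h3
    exact ndvd_two hp2 h3
  have hfac : Q ^ 2 - 1 = (Q + 1) * (Q - 1) := by
    have := Nat.sq_sub_sq Q 1
    simpa using this
  have hnot1 : ¬ (p ∣ Q - 1 ∧ p ∣ Q + 1) := by
    rintro ⟨h1, h2⟩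
    have h3 := Nat.dvd_sub h2 h1
    rw [show Q + 1 - (Q - 1) = 2 by omega] at h3
    exact ndvd_two hp2 h3
  constructor
  · rintro (h | ⟨h, j, hj⟩)
    · have h1 := padicValNat.pow_sub_pow (p := p) hodd (x := Q) (y := 1) (by omega) h hpQ' (n := w) (by omega)
      rw [one_pow] at h1
      have h2 : p ∣ Q ^ w - 1 := h.trans (by
        have := Nat.sub_dvd_pow_sub_pow Q 1 w
        rwa [one_pow] at this)
      refine ⟨?_, fun h3 => hnot ⟨h2, h3⟩⟩
      rw [h1, hfac, padicValNat.mul (by omega) (by omega),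
        padicValNat.eq_zero_of_not_dvd (fun h3 => hnot1 ⟨h, h3⟩), zero_add]
    · have h0 : p ∣ Q ^ 2 - 1 := by rw [hfac]; exact Dvd.dvd.mul_right h _
      have hQ2 : 1 < Q ^ 2 := Nat.one_lt_pow (by omega) (by omega)
      have h1 := padicValNat.pow_sub_pow (p := p) hodd (x := Q ^ 2) (y := 1) hQ2 h0
        (fun h6 => hpQ' (hp.out.dvd_of_dvd_pow h6)) (n := j) (by omega)
      rw [one_pow, ← pow_mul, two_mul, ← hj] at h1
      have h2 : p ∣ Q ^ w - 1 := by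
        rw [hj, ← two_mul, pow_mul]
        exact h0.trans (by
          have := Nat.sub_dvd_pow_sub_pow (Q ^ 2) 1 j
          rwa [one_pow] at this)
      refine ⟨?_, fun h3 => hnot ⟨h2, h3⟩⟩
      rw [h1]
      congr 1
      rw [hj, ← two_mul, padicValNat.mul (by norm_num) (by omega), padicValNat.eq_zero_of_not_dvd (ndvd_two hp2),
        zero_add]
  · rintro ⟨h, hwo⟩
    have h1 := padicValNat.pow_add_pow (p := p) hodd (x := Q) (y := 1) h hpQ' hwo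
    rw [one_pow] at h1
    have h2 : p ∣ Q ^ w + 1 := h.trans (by
      have := Odd.nat_add_dvd_pow_add_pow Q 1 hwo
      rwa [one_pow] at this)
    refine ⟨?_, fun h3 => hnot ⟨h3, h2⟩⟩
    rw [h1, hfac, padicValNat.mul (by omega) (by omega),
      padicValNat.eq_zero_of_not_dvd (fun h3 => hnot1 ⟨h3, h⟩), add_zero]

/-- right type -/
theorem val_right {p q c : ℕ} [hp : Fact p.Prime] (hp2 : p ≠ 2) (hq : 2 ≤ q) (hpq' : ¬ p ∣ q) (hc : 0 < c)
    (hck : ∀ k, p ∣ (q ^ k) ^ 2 - 1 ↔ c ∣ k) {w : ℕ} (hw : 0 < w) {R : ℕ} (hR : R ≠ 0)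
    (hRv : padicValNat p R = padicValNat p ((q ^ c) ^ 2 - 1) + padicValNat p w) {k : ℕ} (hk : k ≠ 0)
    (hkv : padicValNat p k = padicValNat p ((q ^ c) ^ 2 - 1)) :
    padicValNat p (2 * q ^ ((c * w) * (c * w - 1)) * R *
      ∏ i ∈ Finset.range (c * w - 1), (q ^ (2 * (i + 1)) - 1)) = padicValNat p (k ^ w * w.factorial) := by
  rw [(val_order hp2 hq hpq' hc hck hw hR).2, hRv, padicValNat.mul (pow_ne_zero _ hk) (Nat.factorial_ne_zero w),
    padicValNat.pow, hkv]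
  obtain ⟨j, rfl⟩ : ∃ j, w = j + 1 := ⟨w - 1, by omega⟩
  rw [Nat.add_sub_cancel, Nat.factorial_succ, padicValNat.mul (by omega) (Nat.factorial_ne_zero j)]
  ring

/-- wrong type -/
theorem val_wrong {p q c : ℕ} [hp : Fact p.Prime] (hp2 : p ≠ 2) (hq : 2 ≤ q) (hpq' : ¬ p ∣ q) (hc : 0 < c)
    (hck : ∀ k, p ∣ (q ^ k) ^ 2 - 1 ↔ c ∣ k) {w : ℕ} (hw : 0 < w) {R : ℕ} (hR : R ≠ 0)
    (hRv : ¬ p ∣ R) {k : ℕ} (hk : k ≠ 0)
    (hkv : padicValNat p k = padicValNat p ((q ^ c) ^ 2 - 1)) :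
    ¬ k ^ w * w.factorial ∣ 2 * q ^ ((c * w) * (c * w - 1)) * R *
      ∏ i ∈ Finset.range (c * w - 1), (q ^ (2 * (i + 1)) - 1) := by
  intro hdvd
  obtain ⟨h0, h1⟩ := val_order hp2 hq hpq' hc hck hw hR
  have h6 := padicValNat_dvd_iff_le h0 |>.1 ((pow_padicValNat_dvd (p := p)).trans hdvd)
  rw [h1, padicValNat.eq_zero_of_not_dvd hRv, padicValNat.mul (pow_ne_zero _ hk) (Nat.factorial_ne_zero w),
    padicValNat.pow, hkv] at h6
  obtain ⟨j, rfl⟩ : ∃ j, w = j + 1 := ⟨w - 1, by omega⟩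
  rw [Nat.add_sub_cancel, Nat.factorial_succ, padicValNat.mul (by omega) (Nat.factorial_ne_zero j), zero_add] at h6
  have h7 : (q ^ c) ^ 2 - 1 ≠ 0 := by
    have : 1 < (q ^ c) ^ 2 := by
      rw [← pow_mul]
      exact Nat.one_lt_pow (by omega) (by omega)
    omega
  have h9 : 1 ≤ padicValNat p ((q ^ c) ^ 2 - 1) := one_le_padicValNat_of_dvd h7 ((hck c).2 (dvd_refl _))
  have h10 : (j + 1) * padicValNat p ((q ^ c) ^ 2 - 1) = j * padicValNat p ((q ^ c) ^ 2 - 1) +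
    padicValNat p ((q ^ c) ^ 2 - 1) := by ring
  omega

end Cfsg.Agent.H984.OnVal
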