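import Cfsg.Agent.H984.On.Frame
import Cfsg.Agent.H984.On.Val

/-!
# Frames: the groups `PΩ^ε_{2cw}(q)` (helper984)
-/

set_option autoImplicit false
set_option linter.unusedSectionVars false

namespace Cfsg.Agent.H984.OnFrameRow

open QuadraticMap Cfsg.Agent.LieClassical.OrthCore Cfsg.Agent.LieClassical.OrthTrans
  Cfsg.Agent.LieClassical.OrthSimple Cfsg.Agent.LieClassical.OrthFinite
  Cfsg.Agent.ClassicalGeometry.OrthSemi Cfsg.Agent.ClassicalGeometry.OrthSemiForms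
  Cfsg.Agent.ClassicalGeometry.OrthSemiCount Cfsg.Agent.H709.OrthFrame
  Cfsg.Agent.LieClassical.OrthForms Cfsg.Agent.H709.GmnPOmega
open Cfsg.Agent.H467.OddNorm (Ev Ev.congr)
open Cfsg.Agent.H984.OnVal (val_right val_wrong val_cases val_order)

variable {F : Type*} [Field F] [Fintype F]

theorem finrank_frm {W : Type*} [AddCommGroup W] [Module F W] [Module.Finite F W] {c w : ℕ}
    (hd : Module.finrank F W = 2 * c) : Module.finrank F (Fin w → W) = 2 * (c * w) := by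
  rw [Module.finrank_pi_fintype]
  simp only [hd, Finset.sum_const, Finset.card_univ, Fintype.card_fin, smul_eq_mul]
  ring

section

variable {W : Type*} [AddCommGroup W] [Module F W] [Finite W] {N : QuadraticForm F W} {c w p : ℕ}
  [hp : Fact p.Prime]

theorem ev_N_plus (hN : Nondeg N) (hd : Module.finrank F W = 2 * c) (hc : 0 < c) (hw : 2 ≤ w) (hm : 5 ≤ c * w)
    (huniv : ∀ x : F, ∃ v, N v = x) (hss : ∀ (σ : F ≃+* F) (x : F), x ≠ 0 → ∃ M, IsSS N σ x M) (hp2 : p ≠ 2)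
    (hpq' : ¬ p ∣ Fintype.card F) (hck : ∀ k, p ∣ (Fintype.card F ^ k) ^ 2 - 1 ↔ c ∣ k)
    (hkv : padicValNat p (Nat.card (O N)) = padicValNat p ((Fintype.card F ^ c) ^ 2 - 1))
    (hR : padicValNat p (Fintype.card F ^ (c * w) - 1) =
      padicValNat p ((Fintype.card F ^ c) ^ 2 - 1) + padicValNat p w ∧ ¬ p ∣ Fintype.card F ^ (c * w) + 1) :
    Ev p (Cfsg.POmega F (Cfsg.quadFormPlus (c * w) F)) := by
  obtain ⟨q, hq⟩ : ∃ q, q = Fintype.card F := ⟨_, rfl⟩
  have hq2 : 2 ≤ q := by rw [hq]; exact Fintype.one_lt_card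
  rw [← hq] at hpq' hkv hR
  simp only [← hq] at hck
  have : Module.Finite F W := Module.Finite.of_finite
  have hfinN : Finite (W ≃ₗ[F] W) := Finite.of_injective (fun f => (f : W → W)) DFunLike.coe_injective
  have hnt : Nontrivial W := Module.nontrivial_of_finrank_pos (R := F) (by rw [hd]; omega)
  have hnd : Nondeg (frm w N) := nondeg_frm hN
  have hfr := finrank_frm (F := F) (W := W) (w := w) hd
  have hG : Good (frm w N) := good_of_finite hnd (by rw [hfr]; omega)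
  have hsurj : Function.Surjective (Psi (frm w N)) :=
    AutOrth.Final.surjective_of_no_four hG (by rw [hfr]; omega) (fun h => by
      rw [hfr] at h; omega)
  have hR0 : q ^ (c * w) - 1 ≠ 0 := by
    have : 1 < q ^ (c * w) := Nat.one_lt_pow (by omega) (by omega)
    omega
  have hdvd : Nat.card (O N) ^ w * w.factorial ∣ Nat.card (O (frm w N)) :=
    (card_dvd_XO (m := w) (N := N)).trans (Subgroup.card_subgroup_dvd_card _)
  have hO0 : Nat.card (O N) ≠ 0 := Nat.card_pos.ne'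
  -- the type
  obtain ⟨j, hj⟩ : ∃ j : (Fin (c * w) ⊕ Fin (c * w) → F) ≃ₗ[F] (Fin w → W),
      ∀ x, frm w N (j x) = plusForm (c * w) F x := by
    rcases nf_even hnd (by omega) hfr with ⟨j, hj⟩ | ⟨a', b', hab', j, hj⟩
    · exact ⟨j, hj⟩
    · exfalso
      rw [← card_O_iso hj, card_O, coe_minusForm, Cfsg.Agent.S0288.result hq.symm (c * w) (by omega) a' b' hab'] at hdvd
      exact val_wrong hp2 hq2 hpq' hc hck (w := w) (by omega) (R := q ^ (c * w) + 1) (by omega) hR.2 hO0 hkv hdvd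
  have hc2 : Nat.card (O (frm w N)) =
      2 * q ^ ((c * w) * (c * w - 1)) * (q ^ (c * w) - 1) *
        ∏ i ∈ Finset.range (c * w - 1), (q ^ (2 * (i + 1)) - 1) := by
    rw [← card_O_iso hj, card_O, coe_plusForm, Cfsg.Agent.S0287.result hq.symm (c * w) (by omega)]
  have hrow := Cfsg.Agent.H984.OnFrame.ev_frm hG hw hsurj huniv hss hp2 (by
    rw [hc2]
    exact val_right hp2 hq2 hpq' hc hck (by omega) hR0 hR.1 hO0 hkv)
  have h1 : PE (frm w N) ≃* Cfsg.POmega F ⇑(plusForm (c * w) F) :=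
    (quotientCenterCongr (eE hj).symm).trans (pomegaEquiv (good_plus (by omega))).symm
  rw [coe_plusForm] at h1
  have hfinL : Finite ((Fin w → W) ≃ₗ[F] (Fin w → W)) :=
    Finite.of_injective (fun f => (f : (Fin w → W) → (Fin w → W))) DFunLike.coe_injective
  have hcard0 : Finite ↥(E (frm w N)) := inferInstance
  have hfin : Finite (PE (frm w N)) := Quotient.finite _
  exact Ev.congr h1 hrow

theorem ev_N_minus (hN : Nondeg N) (hd : Module.finrank F W = 2 * c) (hc : 0 < c) (hw : 2 ≤ w) (hm : 5 ≤ c * w)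
    (huniv : ∀ x : F, ∃ v, N v = x) (hss : ∀ (σ : F ≃+* F) (x : F), x ≠ 0 → ∃ M, IsSS N σ x M) (hp2 : p ≠ 2)
    (hpq' : ¬ p ∣ Fintype.card F) (hck : ∀ k, p ∣ (Fintype.card F ^ k) ^ 2 - 1 ↔ c ∣ k)
    (hkv : padicValNat p (Nat.card (O N)) = padicValNat p ((Fintype.card F ^ c) ^ 2 - 1))
    (a b : F) (hab : ∀ z₁ z₂ : F, z₁ ^ 2 + a * z₁ * z₂ + b * z₂ ^ 2 = 0 → z₁ = 0 ∧ z₂ = 0)
    (hR : padicValNat p (Fintype.card F ^ (c * w) + 1) =
      padicValNat p ((Fintype.card F ^ c) ^ 2 - 1) + padicValNat p w ∧ ¬ p ∣ Fintype.card F ^ (c * w) - 1) :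
    Ev p (Cfsg.POmega F (Cfsg.quadFormMinus (c * w - 1) F a b)) := by
  obtain ⟨q, hq⟩ : ∃ q, q = Fintype.card F := ⟨_, rfl⟩
  have hq2 : 2 ≤ q := by rw [hq]; exact Fintype.one_lt_card
  rw [← hq] at hpq' hkv hR
  simp only [← hq] at hck
  have : Module.Finite F W := Module.Finite.of_finite
  have hfinN : Finite (W ≃ₗ[F] W) := Finite.of_injective (fun f => (f : W → W)) DFunLike.coe_injective
  have hnt : Nontrivial W := Module.nontrivial_of_finrank_pos (R := F) (by rw [hd]; omega)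
  have hnd : Nondeg (frm w N) := nondeg_frm hN
  have hfr := finrank_frm (F := F) (W := W) (w := w) hd
  have hG : Good (frm w N) := good_of_finite hnd (by rw [hfr]; omega)
  have hsurj : Function.Surjective (Psi (frm w N)) :=
    AutOrth.Final.surjective_of_no_four hG (by rw [hfr]; omega) (fun h => by
      rw [hfr] at h; omega)
  have hR0 : q ^ (c * w) - 1 ≠ 0 := by
    have : 1 < q ^ (c * w) := Nat.one_lt_pow (by omega) (by omega)
    omega
  have hdvd : Nat.card (O N) ^ w * w.factorial ∣ Nat.card (O (frm w N)) :=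
    (card_dvd_XO (m := w) (N := N)).trans (Subgroup.card_subgroup_dvd_card _)
  have hO0 : Nat.card (O N) ≠ 0 := Nat.card_pos.ne'
  -- the type
  obtain ⟨j, hj⟩ : ∃ j : ((Fin (c * w - 1) ⊕ Fin (c * w - 1)) ⊕ Fin 2 → F) ≃ₗ[F] (Fin w → W),
      ∀ x, frm w N (j x) = minusForm (c * w - 1) F a b x := by
    rcases nf_even hnd (by omega) hfr with ⟨j, hj⟩ | ⟨a', b', hab', j, hj⟩
    · exfalso
      rw [← card_O_iso hj, card_O, coe_plusForm, Cfsg.Agent.S0287.result hq.symm (c * w) (by omega)] at hdvd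
      exact val_wrong hp2 hq2 hpq' hc hck (w := w) (by omega) hR0 hR.2 hO0 hkv hdvd
    · obtain ⟨f, hf⟩ := H193.QuadEmb.minus_iso (F := F) (c * w - 1) hab hab' one_ne_zero
      refine ⟨f.trans j, fun x => ?_⟩
      rw [LinearEquiv.trans_apply, hj, coe_minusForm, hf, one_mul, coe_minusForm]
  have hc2 : Nat.card (O (frm w N)) =
      2 * q ^ ((c * w) * (c * w - 1)) * (q ^ (c * w) + 1) *
        ∏ i ∈ Finset.range (c * w - 1), (q ^ (2 * (i + 1)) - 1) := by
    rw [← card_O_iso hj, card_O, coe_minusForm, Cfsg.Agent.S0288.result hq.symm (c * w) (by omega) a b hab]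
  have hrow := Cfsg.Agent.H984.OnFrame.ev_frm hG hw hsurj huniv hss hp2 (by
    rw [hc2]
    exact val_right hp2 hq2 hpq' hc hck (by omega) (by omega) hR.1 hO0 hkv)
  have h1 : PE (frm w N) ≃* Cfsg.POmega F ⇑(minusForm (c * w - 1) F a b) :=
    (quotientCenterCongr (eE hj).symm).trans (pomegaEquiv (good_minus (by omega) a b hab)).symm
  rw [coe_minusForm] at h1
  have hfinL : Finite ((Fin w → W) ≃ₗ[F] (Fin w → W)) :=
    Finite.of_injective (fun f => (f : (Fin w → W) → (Fin w → W))) DFunLike.coe_injective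
  have hcard0 : Finite ↥(E (frm w N)) := inferInstance
  have hfin : Finite (PE (frm w N)) := Quotient.finite _
  exact Ev.congr h1 hrow

end

/-! ### the blocks -/

theorem univ_plus {c : ℕ} (hc : 0 < c) (x : F) : ∃ v, plusForm c F v = x := by
  refine ⟨Sum.elim (Pi.single ⟨0, hc⟩ x) (fun _ => 1), ?_⟩
  rw [coe_plusForm, quadFormPlus_apply]
  simp

theorem univ_minus (c : ℕ) (a b : F)
    (hab : ∀ z₁ z₂ : F, z₁ ^ 2 + a * z₁ * z₂ + b * z₂ ^ 2 = 0 → z₁ = 0 ∧ z₂ = 0)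
    (x : F) : ∃ v, minusForm c F a b v = x := by
  obtain ⟨l₁, l₂, hl⟩ := exists_binary_eq a b hab x
  refine ⟨Sum.elim (fun _ => 0) ![l₁, l₂], ?_⟩
  rw [coe_minusForm, quadFormMinus_apply]
  simp only [Sum.elim_inl, Sum.elim_inr, mul_zero, Finset.sum_const_zero, zero_add]
  exact hl

/-- an anisotropic binary form -/
theorem exists_aniso (F : Type*) [Field F] [Finite F] :
    ∃ a b : F, ∀ z₁ z₂ : F, z₁ ^ 2 + a * z₁ * z₂ + b * z₂ ^ 2 = 0 → z₁ = 0 ∧ z₂ = 0 := by
  have h1 : ¬ Function.Surjective (fun x : F × F => (-(x.1 + x.2), x.1 * x.2)) := by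
    intro h
    have h2 := Finite.injective_iff_surjective.2 h
    have h3 : ((0, 1) : F × F) = (1, 0) := h2 (by simp)
    have h4 := congrArg Prod.fst h3
    exact zero_ne_one h4
  rw [Function.Surjective] at h1
  push Not at h1
  obtain ⟨⟨a, b⟩, hab⟩ := h1
  refine ⟨a, b, fun z₁ z₂ hz => ?_⟩
  by_cases h2 : z₂ = 0
  · subst h2
    refine ⟨?_, rfl⟩
    have h3 : z₁ ^ 2 = 0 := by
      linear_combination hz
    exact pow_eq_zero_iff (two_ne_zero) |>.1 h3
  · exfalso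
    apply hab (z₁ / z₂, -a - z₁ / z₂)
    apply Prod.ext
    · show -(z₁ / z₂ + (-a - z₁ / z₂)) = a
      ring
    · show z₁ / z₂ * (-a - z₁ / z₂) = b
      field_simp
      linear_combination -hz

theorem val_O_plus {c p : ℕ} [hp : Fact p.Prime] (hp2 : p ≠ 2) (hc : 0 < c) (hpq' : ¬ p ∣ Fintype.card F)
    (hck : ∀ k, p ∣ (Fintype.card F ^ k) ^ 2 - 1 ↔ c ∣ k) (h : p ∣ Fintype.card F ^ c - 1) :
    padicValNat p (Nat.card (O (plusForm c F))) = padicValNat p ((Fintype.card F ^ c) ^ 2 - 1) := by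
  obtain ⟨q, hq⟩ : ∃ q, q = Fintype.card F := ⟨_, rfl⟩
  have hq2 : 2 ≤ q := by rw [hq]; exact Fintype.one_lt_card
  rw [← hq] at hpq' h ⊢
  simp only [← hq] at hck
  have hqc : 1 < q ^ c := Nat.one_lt_pow (by omega) (by omega)
  have h1 := (val_order hp2 hq2 hpq' hc hck (w := 1) one_pos (R := q ^ c - 1) (by omega)).2
  have h2 := ((val_cases (w := 1) (Q := q ^ c) hp2 (by omega) (fun h => hpq' (hp.out.dvd_of_dvd_pow h)) one_pos).1
    (Or.inl h)).1
  rw [mul_one, Nat.sub_self, zero_mul, Nat.factorial_zero, padicValNat_one_right, add_zero, add_zero] at h1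
  rw [pow_one, padicValNat_one_right, add_zero] at h2
  rw [card_O, coe_plusForm, Cfsg.Agent.S0287.result hq.symm c hc, h1, h2]

theorem val_O_minus {c p : ℕ} [hp : Fact p.Prime] (hp2 : p ≠ 2) (hc : 0 < c) (hpq' : ¬ p ∣ Fintype.card F)
    (hck : ∀ k, p ∣ (Fintype.card F ^ k) ^ 2 - 1 ↔ c ∣ k) (h : p ∣ Fintype.card F ^ c + 1)
    (a b : F) (hab : ∀ z₁ z₂ : F, z₁ ^ 2 + a * z₁ * z₂ + b * z₂ ^ 2 = 0 → z₁ = 0 ∧ z₂ = 0) :
    padicValNat p (Nat.card (O (minusForm (c - 1) F a b))) = padicValNat p ((Fintype.card F ^ c) ^ 2 - 1) := by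
  obtain ⟨q, hq⟩ : ∃ q, q = Fintype.card F := ⟨_, rfl⟩
  have hq2 : 2 ≤ q := by rw [hq]; exact Fintype.one_lt_card
  rw [← hq] at hpq' h ⊢
  simp only [← hq] at hck
  have hqc : 1 < q ^ c := Nat.one_lt_pow (by omega) (by omega)
  have h1 := (val_order hp2 hq2 hpq' hc hck (w := 1) one_pos (R := q ^ c + 1) (by omega)).2
  have h2 := ((val_cases (w := 1) (Q := q ^ c) hp2 (by omega) (fun h => hpq' (hp.out.dvd_of_dvd_pow h)) one_pos).2
    ⟨h, odd_one⟩).1
  rw [mul_one, Nat.sub_self, zero_mul, Nat.factorial_zero, padicValNat_one_right, add_zero, add_zero] at h1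
  rw [pow_one, padicValNat_one_right, add_zero] at h2
  rw [card_O, coe_minusForm, Cfsg.Agent.S0288.result hq.symm c hc a b hab, h1, h2]

theorem finrank_plus (c : ℕ) : Module.finrank F (Fin c ⊕ Fin c → F) = 2 * c := by
  simp only [Module.finrank_fintype_fun_eq_card, Fintype.card_sum, Fintype.card_fin]
  omega

theorem finrank_minus {c : ℕ} (hc : 0 < c) : Module.finrank F ((Fin (c - 1) ⊕ Fin (c - 1)) ⊕ Fin 2 → F) = 2 * c := by
  simp only [Module.finrank_fintype_fun_eq_card, Fintype.card_sum, Fintype.card_fin]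
  omega

/-- **Plus type by frames.** -/
theorem ev_plus {c w p : ℕ} [hp : Fact p.Prime] (hp2 : p ≠ 2) (hc : 0 < c) (hw : 2 ≤ w) (hm : 5 ≤ c * w)
    (hpq' : ¬ p ∣ Fintype.card F) (hck : ∀ k, p ∣ (Fintype.card F ^ k) ^ 2 - 1 ↔ c ∣ k)
    (h : p ∣ Fintype.card F ^ c - 1 ∨ (p ∣ Fintype.card F ^ c + 1 ∧ Even w)) :
    Ev p (Cfsg.POmega F (Cfsg.quadFormPlus (c * w) F)) := by
  have hq2 : 2 ≤ Fintype.card F := Fintype.one_lt_card
  have hqc : 1 < Fintype.card F ^ c := Nat.one_lt_pow (by omega) (by omega)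
  have hR := (val_cases (w := w) (Q := Fintype.card F ^ c) hp2 (by omega)
    (fun h => hpq' (hp.out.dvd_of_dvd_pow h)) (by omega)).1 h
  rw [← pow_mul] at hR
  rcases h with h | ⟨h, -⟩
  · exact ev_N_plus (nondeg_plusForm c F) (finrank_plus c) hc hw hm (univ_plus hc)
      (fun σ x hx => plus_exists c σ x hx) hp2 hpq' hck (val_O_plus hp2 hc hpq' hck h) hR
  · obtain ⟨a, b, hab⟩ := exists_aniso F
    exact ev_N_plus (nondeg_minusForm (c - 1) F a b hab) (finrank_minus hc) hc hw hm (univ_minus (c - 1) a b hab)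
      (fun σ x hx => minus_exists (c - 1) a b hab σ x hx) hp2 hpq' hck (val_O_minus hp2 hc hpq' hck h a b hab) hR

/-- **Minus type by frames.** -/
theorem ev_minus {c w p : ℕ} [hp : Fact p.Prime] (hp2 : p ≠ 2) (hc : 0 < c) (hw : 2 ≤ w) (hm : 5 ≤ c * w)
    (hpq' : ¬ p ∣ Fintype.card F) (hck : ∀ k, p ∣ (Fintype.card F ^ k) ^ 2 - 1 ↔ c ∣ k)
    (h : p ∣ Fintype.card F ^ c + 1 ∧ Odd w)
    (a b : F) (hab : ∀ z₁ z₂ : F, z₁ ^ 2 + a * z₁ * z₂ + b * z₂ ^ 2 = 0 → z₁ = 0 ∧ z₂ = 0) :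
    Ev p (Cfsg.POmega F (Cfsg.quadFormMinus (c * w - 1) F a b)) := by
  have hq2 : 2 ≤ Fintype.card F := Fintype.one_lt_card
  have hqc : 1 < Fintype.card F ^ c := Nat.one_lt_pow (by omega) (by omega)
  have hR := (val_cases (w := w) (Q := Fintype.card F ^ c) hp2 (by omega)
    (fun h => hpq' (hp.out.dvd_of_dvd_pow h)) (by omega)).2 h
  rw [← pow_mul] at hR
  exact ev_N_minus (nondeg_minusForm (c - 1) F a b hab) (finrank_minus hc) hc hw hm (univ_minus (c - 1) a b hab)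
    (fun σ x hx => minus_exists (c - 1) a b hab σ x hx) hp2 hpq' hck (val_O_minus hp2 hc hpq' hck h.1 a b hab)
    a b hab hR

end Cfsg.Agent.H984.OnFrameRow
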